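import Cfsg.Agent.Lib.CharFocal.Main

/-!
The focal subgroup of a Sylow `p`-subgroup, `p` odd, is generated by the `S ∩ N(K)'`, `K` characteristic in `S`.

* `allFunctors`, `transport`, `focal_le_char`, `controls`
-/

set_option autoImplicit false
open Cfsg
open scoped commutatorElement

namespace Cfsg.Agent.CharFocal

universe u

/-- All isomorphism-invariant `p`-group functors. -/
def allFunctors (p : ℕ) : Set (∀ (Q : Type u) [Group Q], Subgroup Q) := {W | IsCharPFunctor.{u} p W}

open Classical in
/-- The functor carrying a subgroup of `A` to the isomorphic copies of `A`. -/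
noncomputable def transport {A : Type u} [Group A] (K : Subgroup A) : ∀ (Q : Type u) [Group Q], Subgroup Q :=
  fun Q _ => if h : Nonempty (A ≃* Q) then K.map h.some.toMonoidHom else ⊤

theorem transport_mem {p : ℕ} {A : Type u} [Group A] {K : Subgroup A} (hK : K ≠ ⊥) (hc : K.Characteristic) :
    transport K ∈ allFunctors.{u} p := by
  refine ⟨fun Q _ _ _ hnt => ?_, fun Q R _ _ _ _ φ => ?_⟩
  · unfold transport
    split_ifs with h
    · rw [Ne, Subgroup.map_eq_bot_iff_of_injective _ h.some.injective]
      exact hK
    · exact top_ne_bot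
  · unfold transport
    split_ifs with h1 h2 h3
    · rw [Subgroup.map_map, show φ.toMonoidHom.comp h1.some.toMonoidHom =
        h2.some.toMonoidHom.comp ((h1.some.trans φ).trans h2.some.symm).toMonoidHom from
          MonoidHom.ext fun a => by simp, ← Subgroup.map_map,
        Subgroup.characteristic_iff_map_eq.1 hc]
    · exact absurd ⟨h1.some.trans φ⟩ h2
    · exact absurd ⟨h3.some.trans φ.symm⟩ h1
    · exact Subgroup.map_top_of_surjective _ φ.surjective

theorem transport_self {A : Type u} [Group A] {K : Subgroup A} (hc : K.Characteristic) :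
    transport K A = K := by
  unfold transport
  rw [dif_pos (show Nonempty (A ≃* A) from ⟨MulEquiv.refl A⟩)]
  exact Subgroup.characteristic_iff_map_eq.1 hc _

theorem induced_transport {G : Type u} [Group G] {S : Subgroup G} {K : Subgroup ↥S} (hc : K.Characteristic) :
    inducedFunctor (transport K) S = K.map S.subtype := by
  unfold inducedFunctor
  show (transport K ↥S).map S.subtype = _
  rw [transport_self hc]

/-- Transfer is controlled by all functors together. -/
theorem controls {G : Type u} [Group G] [Finite G] {p : ℕ} [Fact p.Prime] (hp : p ≠ 2) :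
    FamilyControlsTransferIn p ((fun W => inducedFunctor (G := G) W) '' allFunctors.{u} p) ⊤ := by
  refine FunctorControl.controlsTransfer_induction (G := G) (fun W hW => hW) (fun X _ _ _ S h => ?_) G
    (FunctorControl.IsSec.refl G)
  have hne : (allFunctors.{u} p).Nonempty := ⟨transport (⊤ : Subgroup (ULift.{u} (Multiplicative (ZMod 2)))),
    transport_mem top_ne_bot inferInstance⟩
  have hno : NoChar (S : Subgroup X) := fun K hK hc hn => by
    refine h.fail ((FunctorControl.controlsTransfer_iff h.char S).2 ?_)
    refine le_trans ?_ (le_iSup₂ (f := fun W (_ : W ∈ allFunctors.{u} p) => (S : Subgroup X) ⊓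
      ⁅Subgroup.normalizer ((inducedFunctor W (S : Subgroup X) : Subgroup X) : Set X),
        Subgroup.normalizer ((inducedFunctor W (S : Subgroup X) : Subgroup X) : Set X)⁆)
      (transport K) (transport_mem hK hc))
    rw [induced_transport hc, Subgroup.normalizer_eq_top_iff.2 hn]
  obtain ⟨M, F, hB⟩ := base_of_transferMin h hne hno
  exact false_of_base hB hp

/-- The focal subgroup is generated by the characteristic normalisers. -/
theorem focal_eq {G : Type u} [Group G] [Finite G] {p : ℕ} [Fact p.Prime] (hp : p ≠ 2) (S : Sylow p G)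
    (hS : (S : Subgroup G) ≠ ⊥) :
    (S : Subgroup G) ⊓ commutator G = ⨆ K : {K : Subgroup ↥(S : Subgroup G) // K ≠ ⊥ ∧ K.Characteristic},
      (S : Subgroup G) ⊓ ⁅Subgroup.normalizer ((((K : Subgroup ↥(S : Subgroup G))).map
        (S : Subgroup G).subtype : Subgroup G) : Set G), Subgroup.normalizer ((((K : Subgroup ↥(S : Subgroup G))).map
        (S : Subgroup G).subtype : Subgroup G) : Set G)⁆ := by
  refine le_antisymm ?_ (iSup_le fun K => inf_le_inf_left _ (Subgroup.commutator_mono le_top le_top))
  rw [commutator_def, FunctorControl.controlsTransfer_at_top (𝓦 := allFunctors.{u} p) (fun W hW => hW) S (controls hp)]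
  refine iSup₂_le fun W hW => ?_
  haveI : Nontrivial ↥(S : Subgroup G) := (Subgroup.nontrivial_iff_ne_bot _).2 hS
  have hKne : W ↥(S : Subgroup G) ≠ ⊥ := hW.1 _ S.isPGroup' inferInstance
  have hKc : (W ↥(S : Subgroup G)).Characteristic :=
    Subgroup.characteristic_iff_map_eq.2 fun φ => hW.2 _ _ S.isPGroup' φ
  exact le_iSup_of_le ⟨_, hKne, hKc⟩ le_rfl

end Cfsg.Agent.CharFocal
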